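import Cfsg.Agent.H966.PairNum
import Cfsg.Agent.H730.PairRow
import Cfsg.Agent.FastGrp
import Cfsg.Agent.Prune
set_option linter.all false
prune_inst 0x7f00000000000000000000000000000000000000000000000000000000000000000000000000000000000000000000000000000000000000000000000000000000000000000000000000000000000000003fffffffffffffffffffffffffffbeffbdffffffff
open scoped Cfsg.Agent.FastGrp

/-!
# `PairRow` from three `VZ` elements of prime orders (helper568)

* `two_of_pair` : `x`, `y` of prime orders `a`, `b` (which divide `#S` exactly once), no element of order `a b`, no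
  simple `T` with `a b ∣ #T` and `p #T ∣ #S`. Then `p` divides the class size of `x` or of `y`.
* `two_of_num` : the same, with the numerical test `secOK`.
* `exists_order_mul` : `a`, `b` divide the order of the centralizer of an element of order `p`: an element of
  order `a b` exists (numerical test `secOK`).
* `pairRow_of_three` : if every prime divisor of `#S` divides two of the three class sizes of the `VZ` elements
  `x`, `y`, `z`, then `PairRow S`.
* `pairRow_of_tri` : three primes `a`, `b`, `c`.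
-/

set_option autoImplicit false

namespace Cfsg.Agent.H568.TriPair

open Subgroup Cfsg Cfsg.Agent.OrdDiv Cfsg.Agent.H713 Cfsg.Agent.H730.Pair

universe u

/-- Three `VZ` elements such that every prime divisor of `#S` divides at least two of the three class sizes. -/
theorem pairRow_of_three {S : Type*} [Group S] {x y z : S} (hx : VZ S x) (hy : VZ S y) (hz : VZ S z)
    (hxy : ∀ p : ℕ, p.Prime → p ∣ Nat.card S →
      p ∣ (centralizer ({x} : Set S)).index ∨ p ∣ (centralizer ({y} : Set S)).index)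
    (hxz : ∀ p : ℕ, p.Prime → p ∣ Nat.card S →
      p ∣ (centralizer ({x} : Set S)).index ∨ p ∣ (centralizer ({z} : Set S)).index)
    (hyz : ∀ p : ℕ, p.Prime → p ∣ Nat.card S →
      p ∣ (centralizer ({y} : Set S)).index ∨ p ∣ (centralizer ({z} : Set S)).index) : PairRow S := by
  intro p q hp hq _ hpS hqS
  by_cases h1 : p ∣ (centralizer ({x} : Set S)).index
  · by_cases h2 : q ∣ (centralizer ({x} : Set S)).index
    · exact ⟨x, hx, h1, h2⟩
    · have h3 := (hxy q hq hqS).resolve_left h2
      have h4 := (hxz q hq hqS).resolve_left h2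
      rcases hyz p hp hpS with h5 | h5
      · exact ⟨y, hy, h5, h3⟩
      · exact ⟨z, hz, h5, h4⟩
  · have h3 := (hxy p hp hpS).resolve_left h1
    have h4 := (hxz p hp hpS).resolve_left h1
    rcases hyz q hq hqS with h5 | h5
    · exact ⟨y, hy, h3, h5⟩
    · exact ⟨z, hz, h4, h5⟩

/-- If `p` does not divide the class size of `w`, then `w` centralises a Sylow `p`-subgroup. -/
theorem exists_sylow_le {S : Type*} [Group S] [Finite S] {p : ℕ} (hp : p.Prime) {w : S}
    (hw : ¬ p ∣ (centralizer ({w} : Set S)).index) :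
    ∃ P : Sylow p S, (P : Subgroup S) ≤ centralizer ({w} : Set S) := by
  have hf : Fact p.Prime := ⟨hp⟩
  obtain ⟨Q⟩ : Nonempty (Sylow p ↥(centralizer ({w} : Set S))) := inferInstance
  have hQp : IsPGroup p ↥((Q : Subgroup ↥(centralizer ({w} : Set S))).map (centralizer ({w} : Set S)).subtype) :=
    Q.isPGroup'.map _
  obtain ⟨P, hP⟩ := hQp.exists_le_sylow
  refine ⟨P, ?_⟩
  have h1 : Nat.card ↥((Q : Subgroup ↥(centralizer ({w} : Set S))).map (centralizer ({w} : Set S)).subtype) =
      Nat.card (Q : Subgroup ↥(centralizer ({w} : Set S))) :=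
    Nat.card_congr ((Q : Subgroup ↥(centralizer ({w} : Set S))).equivMapOfInjective _
      (centralizer ({w} : Set S)).subtype_injective).symm.toEquiv
  have h2 : Nat.card (P : Subgroup S) ≤ Nat.card (Q : Subgroup ↥(centralizer ({w} : Set S))) := by
    rw [Sylow.card_eq_multiplicity P, Sylow.card_eq_multiplicity Q]
    refine Nat.pow_le_pow_right hp.pos ?_
    rw [← (centralizer ({w} : Set S)).card_mul_index, Nat.factorization_mul Nat.card_pos.ne'
      (FiniteIndex.index_ne_zero), Finsupp.add_apply, Nat.factorization_eq_zero_of_not_dvd hw, add_zero]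
  have h3 : (Q : Subgroup ↥(centralizer ({w} : Set S))).map (centralizer ({w} : Set S)).subtype =
      (P : Subgroup S) := Subgroup.eq_of_le_of_card_ge hP (by rw [h1]; exact h2)
  rw [← h3]
  rintro _ ⟨c, -, rfl⟩
  exact c.2

/-- If `p` does not divide the class size of `x`, then every `p`-element `y` has a conjugate commuting with `x`. -/
theorem exists_conj_comm {S : Type*} [Group S] [Finite S] {p : ℕ} (hp : p.Prime) {x : S}
    (hx : ¬ p ∣ (centralizer ({x} : Set S)).index) {y : S} {k : ℕ} (hy : orderOf y = p ^ k) :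
    ∃ g : S, (g * y * g⁻¹) * x = x * (g * y * g⁻¹) := by
  have hf : Fact p.Prime := ⟨hp⟩
  obtain ⟨P, hP⟩ := exists_sylow_le hp hx
  have hyp : IsPGroup p ↥(zpowers y) := IsPGroup.of_card (n := k) (by rw [Nat.card_zpowers, hy])
  obtain ⟨R, hR⟩ := hyp.exists_le_sylow
  obtain ⟨g, hg⟩ := MulAction.exists_smul_eq S R P
  refine ⟨g, ?_⟩
  have h1 : g * y * g⁻¹ ∈ (P : Subgroup S) := by
    rw [← hg, Sylow.smul_def]
    exact smul_mem_pointwise_smul _ _ _ (hR (mem_zpowers y))
  exact mem_centralizer_singleton_iff.1 (hP h1)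

/-- If `p` divides neither class size, then some element of order `p` commutes with `x` and with a conjugate
of `y`. -/
theorem exists_common {S : Type*} [Group S] [Finite S] {p : ℕ} (hp : p.Prime) (hpS : p ∣ Nat.card S) {x y : S}
    (hx : ¬ p ∣ (centralizer ({x} : Set S)).index) (hy : ¬ p ∣ (centralizer ({y} : Set S)).index) :
    ∃ s g : S, orderOf s = p ∧ s * x = x * s ∧ s * (g * y * g⁻¹) = (g * y * g⁻¹) * s := by
  have hf : Fact p.Prime := ⟨hp⟩
  obtain ⟨P, hP⟩ := exists_sylow_le hp hx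
  obtain ⟨⟨s, hsP⟩, hs⟩ := exists_prime_orderOf_dvd_card' (G := ↥(P : Subgroup S)) p (P.dvd_card_of_dvd_card hpS)
  have hs' : orderOf s = p := by rw [← hs]; exact (Subgroup.orderOf_mk s hsP).symm
  obtain ⟨g, hg⟩ := exists_conj_comm hp hy (k := 1) (hs'.trans (pow_one p).symm)
  refine ⟨s, g⁻¹, hs', mem_centralizer_singleton_iff.1 (hP hsP), ?_⟩
  rw [inv_inv]
  calc s * (g⁻¹ * y * g) = g⁻¹ * ((g * s * g⁻¹) * y) * g := by group
    _ = g⁻¹ * (y * (g * s * g⁻¹)) * g := by rw [hg]
    _ = g⁻¹ * y * g * s := by group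

/-- **Every prime divides one of the class sizes of `x` and `y`.** -/
theorem two_of_pair {S : Type u} [Group S] [Finite S] {a b p : ℕ} (ha : a.Prime) (hb : b.Prime) (hp : p.Prime)
    (hne : a ≠ b) (h12 : ¬ a ∣ b - 1) (h21 : ¬ b ∣ a - 1) (d1 : ¬ a ^ 2 ∣ Nat.card S) (d2 : ¬ b ^ 2 ∣ Nat.card S)
    (hnc : ∀ g : S, orderOf g ≠ a * b)
    (hsec : p ∣ Nat.card S → p ≠ a → p ≠ b → ∀ (T : Type u) [Group T] [Finite T], IsSimpleGroup T →
      a * b ∣ Nat.card T → p * Nat.card T ∣ Nat.card S → False)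
    (hpS : p ∣ Nat.card S) {x y : S} (hx : orderOf x = a) (hy : orderOf y = b) :
    p ∣ (centralizer ({x} : Set S)).index ∨ p ∣ (centralizer ({y} : Set S)).index := by
  by_contra hcon
  rw [not_or] at hcon
  obtain ⟨s, g, hs, hsx, hsy⟩ := exists_common hp hpS hcon.1 hcon.2
  have hy' : orderOf (g * y * g⁻¹) = b := by
    rw [← hy]
    exact MulEquiv.orderOf_eq (MulAut.conj g) y
  set z := g * y * g⁻¹ with hz
  have hdiv : ∀ {w v : S}, w * v = v * w → orderOf w ∣ Nat.card ↥(centralizer ({v} : Set S)) := by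
    intro w v hwv
    rw [← Subgroup.orderOf_mk w (mem_centralizer_singleton_iff.2 hwv)]
    exact orderOf_dvd_natCard _
  by_cases hpa : p = a
  · obtain ⟨g', hg'⟩ := H966.Pair.exists_orderOf_mul (S := S) ha hb hne (hs.trans hpa) (hy' ▸ hdiv hsy.symm)
    exact hnc g' hg'
  · by_cases hpb : p = b
    · obtain ⟨g', hg'⟩ := H966.Pair.exists_orderOf_mul (S := S) ha hb hne hx (by rw [← hpb, ← hs]; exact hdiv hsx)
      exact hnc g' hg'
    · rcases H966.Pair.section_of_centralizer hp ha hb hne h12 h21 d1 d2 hpa hpb hs (hx ▸ hdiv hsx.symm)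
        (hy' ▸ hdiv hsy.symm) with ⟨g', hg'⟩ | ⟨T, iT, fT, hT, hT1, hT2⟩
      · exact hnc g' hg'
      · exact hsec hpS hpa hpb T hT hT1 hT2

/-- the numerical test: no candidate simple group `T` with `a b ∣ #T`, `p #T ∣ N` for the primes `p` of the list -/
def secOK (l : List (ℕ × ℕ)) (N a b : ℕ) : Bool :=
  ((cands l N).filter fun g => ordN g % (a * b) == 0 &&
    l.any fun x => x.1 != a && x.1 != b && N % (x.1 * ordN g) == 0).isEmpty

/-- No simple group `X` with `a b ∣ #X`, `p #X ∣ N`. -/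
theorem no_section (hK : ∀ (T : Type u) [Group T] [Finite T] [IsSimpleGroup T], IsKnownSimple' T)
    (T : OrderTable.{u}) {l : List (ℕ × ℕ)} {N : ℕ} (hv : valid l N = true) {a b p : ℕ} (ha : a.Prime) (hb : b.Prime)
    (hp : p.Prime) (hne : a ≠ b) (hok : secOK l N a b = true) (hpd : p ∣ N) (hpa : p ≠ a) (hpb : p ≠ b)
    (X : Type u) [Group X] [Finite X] (hX : IsSimpleGroup X) (h1 : a * b ∣ Nat.card X) (h2 : p * Nat.card X ∣ N) :
    False := by
  unfold secOK at hok
  have hna : ¬ ∀ x y : X, x * y = y * x := by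
    intro hcomm
    have h5 : (Nat.card X).Prime := by
      have : IsMulCommutative X := ⟨⟨hcomm⟩⟩
      let _ : CommGroup X := { (inferInstance : Group X) with mul_comm := hcomm }
      exact IsSimpleGroup.prime_card
    have h6 : a ∣ Nat.card X := (Dvd.intro _ rfl).trans h1
    have h7 : b ∣ Nat.card X := (Dvd.intro_left _ rfl).trans h1
    exact hne (((Nat.prime_dvd_prime_iff_eq ha h5).1 h6).trans ((Nat.prime_dvd_prime_iff_eq hb h5).1 h7).symm)
  obtain ⟨e, he, -⟩ := exists_pair hv hp (j := 1) le_rfl (by rwa [pow_one])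
  obtain ⟨g, hg, -⟩ := exists_real_filter T (hK X) hna hv ((Dvd.intro_left _ rfl).trans h2)
    (fun c => c % (a * b) == 0 && l.any fun x => x.1 != a && x.1 != b && N % (x.1 * c) == 0) (by
      simp only [Bool.and_eq_true, beq_iff_eq, List.any_eq_true, bne_iff_ne, ne_eq]
      exact ⟨Nat.mod_eq_zero_of_dvd h1, _, he, ⟨hpa, hpb⟩, Nat.mod_eq_zero_of_dvd h2⟩)
  rw [List.isEmpty_iff] at hok
  rw [hok] at hg
  exact absurd hg List.not_mem_nil

/-- **The numerical form.** -/
theorem two_of_num (hK : ∀ (T : Type u) [Group T] [Finite T] [IsSimpleGroup T], IsKnownSimple' T)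
    (T : OrderTable.{u}) {S : Type u} [Group S] [Finite S] {l : List (ℕ × ℕ)} {N : ℕ}
    (hv : valid l N = true) (hN : Nat.card S = N) {a b p : ℕ} (ha : a.Prime) (hb : b.Prime) (hp : p.Prime)
    (hne : a ≠ b) (h12 : ¬ a ∣ b - 1) (h21 : ¬ b ∣ a - 1) (hal : (a, 1) ∈ l) (hbl : (b, 1) ∈ l)
    (hnc : ∀ g : S, orderOf g ≠ a * b) (hok : secOK l N a b = true)
    (hpS : p ∣ Nat.card S) {x y : S} (hx : orderOf x = a) (hy : orderOf y = b) :
    p ∣ (centralizer ({x} : Set S)).index ∨ p ∣ (centralizer ({y} : Set S)).index := by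
  refine two_of_pair ha hb hp hne h12 h21 ?_ ?_ hnc ?_ hpS hx hy
  · rw [hN]; exact valid_exact hv _ hal
  · rw [hN]; exact valid_exact hv _ hbl
  · intro hpd hpa hpb X iX fX hX h1 h2
    rw [hN] at hpd h2
    exact no_section hK T hv ha hb hp hne hok hpd hpa hpb X hX h1 h2

/-- Two primes dividing the order of the centralizer of an element of order `p`: an element of order `a b`. -/
theorem exists_order_mul (hK : ∀ (T : Type u) [Group T] [Finite T] [IsSimpleGroup T], IsKnownSimple' T)
    (T : OrderTable.{u}) {S : Type u} [Group S] [Finite S] {l : List (ℕ × ℕ)} {N : ℕ}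
    (hv : valid l N = true) (hN : Nat.card S = N) {a b p : ℕ} (ha : a.Prime) (hb : b.Prime) (hp : p.Prime)
    (hne : a ≠ b) (hpa : p ≠ a) (hpb : p ≠ b) (h12 : ¬ a ∣ b - 1) (h21 : ¬ b ∣ a - 1) (hal : (a, 1) ∈ l)
    (hbl : (b, 1) ∈ l) (hok : secOK l N a b = true) {z : S} (hz : orderOf z = p)
    (h1 : a ∣ Nat.card ↥(centralizer ({z} : Set S))) (h2 : b ∣ Nat.card ↥(centralizer ({z} : Set S))) :
    ∃ g : S, orderOf g = a * b := by
  rcases H966.Pair.section_of_centralizer hp ha hb hne h12 h21 (by rw [hN]; exact valid_exact hv _ hal)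
    (by rw [hN]; exact valid_exact hv _ hbl) hpa hpb hz h1 h2 with h | ⟨X, iX, fX, hX, hX1, hX2⟩
  · exact h
  · rw [hN] at hX2
    exact (no_section hK T hv ha hb hp hne hok (by rw [← hN, ← hz]; exact orderOf_dvd_natCard z) hpa hpb X hX hX1
      hX2).elim

/-- elements of order `l` -/
theorem exists_order {S : Type*} [Group S] [Finite S] {l : List (ℕ × ℕ)} {N : ℕ} (hv : valid l N = true)
    (hN : Nat.card S = N) {a : ℕ} (ha : a.Prime) (hal : (a, 1) ∈ l) : ∃ x : S, orderOf x = a := by
  have : Fact a.Prime := ⟨ha⟩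
  refine exists_prime_orderOf_dvd_card' a ?_
  rw [hN, ← valid_prod hv, ← pow_one a]
  exact H966.PairNum.dvd_prodl hal

end Cfsg.Agent.H568.TriPair
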