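import Cfsg.Agent.H568.RowAlt
import Cfsg.Prelude.Def_Classification2
import Cfsg.Prelude.Def_KGroupFacts
import Cfsg.Agent.H568.OddPair
import Cfsg.Agent.H966.PairNum
import Cfsg.Agent.H613.Ly5.ThirtyOne
import Cfsg.Agent.H603.SporElim
import Cfsg.Agent.TypeM.OutLyFin
import Cfsg.Agent.H417.Divs
import Cfsg.Agent.S0205
import Cfsg.Agent.OrdDiv.Table
import Cfsg.Agent.Prune
set_option linter.all false

-- part: H798/RowSpBase
section
set_option linter.all false
open scoped Cfsg.Agent.FastGrp

/-!
# Tools for the sporadic rows of S4329 (helper798)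

* `autInner_of_le` : `|Out| ≤ 2` and `p` odd: automorphisms of order `p` are inner;
* `row_driver` : `Row p K` when for `p * p ∣ |K|` there is an element normalising no `p`-subgroup;
* `exists_noNorm_of_elt` : the numerical criterion for an element of prime order `l`.
-/

set_option autoImplicit false

namespace Cfsg.Agent.H798.RowSp

open Subgroup Cfsg Cfsg.Agent.H568 Cfsg.Agent.CpAut

universe u

variable {K : Type u} [Group K] {p : ℕ}

theorem normal_inn : ((MulAut.conj : K →* MulAut K).range).Normal := by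
  constructor
  rintro _ ⟨x, rfl⟩ g
  refine ⟨g x, ?_⟩
  ext y
  simp [MulAut.mul_apply, MulAut.conj_apply]

/-- automorphisms of odd prime order are inner if `|Out| ≤ 2` -/
theorem autInner_of_le [Finite K] (h : (MulAut.conj : K →* MulAut K).range.index ≤ 2) [hp : Fact p.Prime]
    (hp2 : p ≠ 2) : AutInner p K := by
  refine autInner_of_index ?_ normal_inn
  have h0 : (MulAut.conj : K →* MulAut K).range.index ≠ 0 := Subgroup.index_ne_zero_of_finite
  rw [Nat.coprime_comm, hp.1.coprime_iff_not_dvd]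
  intro hd
  have h1 := Nat.le_of_dvd (Nat.pos_of_ne_zero h0) hd
  have h2 := hp.1.two_le
  omega

/-- automorphisms of odd prime order are inner if the outer automorphism group of a copy has order at most 2 -/
theorem autInner_of_out {K' : Type*} [Group K'] [Finite K'] (e : K ≃* K') {n : ℕ} (hn : n ≤ 2)
    (h : Nat.card (Out K') = n) [hp : Fact p.Prime] (hp2 : p ≠ 2) : AutInner p K := by
  have h1 : AutInner p K' := autInner_of_le ((le_of_eq h).trans hn) hp2
  exact h1.congr e.symm

theorem na_of_card [Finite K] [IsSimpleGroup K] {N : ℕ} (hN : Nat.card K = N) (h : ¬ N.Prime) :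
    ¬ IsMulCommutative K := by
  intro hc
  let _ : CommGroup K := { (inferInstance : Group K) with mul_comm := hc.is_comm.comm }
  exact h (hN ▸ IsSimpleGroup.prime_card)

theorem noNorm_of_not_dvd [Finite K] [hp : Fact p.Prime] (h : ¬ p ∣ Nat.card K) (x : K) : NoNorm p x := by
  intro Q hQ _
  obtain ⟨k, hk⟩ := IsPGroup.iff_card.1 hQ
  rcases Nat.eq_zero_or_pos k with rfl | hk0
  · rw [pow_zero] at hk
    exact Subgroup.card_eq_one.1 hk
  · exfalso
    apply h
    have h1 : p ^ k ∣ Nat.card K := hk ▸ Subgroup.card_subgroup_dvd_card Q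
    exact (dvd_pow_self p hk0.ne').trans h1

/-- a Sylow `p`-subgroup is cyclic if `p * p` does not divide the order -/
theorem isCyclic_sylow [Finite K] [hp : Fact p.Prime] (h : ¬ p * p ∣ Nat.card K) (P : Sylow p K) :
    IsCyclic ↥(P : Subgroup K) := by
  obtain ⟨k, hk⟩ := IsPGroup.iff_card.1 P.isPGroup'
  have h1 : p ^ k ∣ Nat.card K := hk ▸ Subgroup.card_subgroup_dvd_card (P : Subgroup K)
  have h2 : k < 2 := by
    by_contra hcon
    have h3 : p ^ 2 ∣ p ^ k := pow_dvd_pow p (by omega)
    rw [pow_two] at h3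
    exact h (h3.trans h1)
  rcases (show k = 0 ∨ k = 1 by omega) with rfl | rfl
  · rw [pow_zero] at hk
    have : Subsingleton ↥(P : Subgroup K) := (Nat.card_eq_one_iff_unique.1 hk).1
    infer_instance
  · rw [pow_one] at hk
    exact isCyclic_of_prime_card hk

/-- **The driver.** -/
theorem row_driver [Finite K] [IsSimpleGroup K] {N : ℕ} (hN : Nat.card K = N) (hna : ¬ N.Prime) [hp : Fact p.Prime]
    (hi : AutInner p K) (h : p * p ∣ N → ∃ x : K, NoNorm p x) : Row p K := by
  have hna' := na_of_card hN hna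
  refine row_of_autInner hna' hi ?_
  by_cases h1 : p ∣ Nat.card K
  · by_cases h2 : p * p ∣ Nat.card K
    · exact h (hN ▸ h2)
    · obtain ⟨P⟩ : Nonempty (Sylow p K) := inferInstance
      exact exists_noNorm_of_cyclic hna' h1 P (isCyclic_sylow h2 P)
  · exact ⟨1, noNorm_of_not_dvd h1 1⟩

/-- the primes whose square divides `N` -/
theorem mem_of_sq {N : ℕ} (L L2 : List ℕ) (hL : ∀ q ∈ L, q.Prime) (k : ℕ) (h : L.prod ^ k % N = 0)
    (hc : (L.all fun q => L2.contains q || !(N % (q * q) == 0)) = true) (hp : p.Prime) (hd : p * p ∣ N) : p ∈ L2 := by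
  have h1 : p ∣ L.prod := hp.dvd_of_dvd_pow (((dvd_mul_right p p).trans hd).trans (Nat.dvd_of_mod_eq_zero h))
  obtain ⟨a, ha, hpa⟩ := (Prime.dvd_prod_iff hp.prime).1 h1
  have h2 : p = a := (Nat.prime_dvd_prime_iff_eq hp (hL a ha)).1 hpa
  subst h2
  have h3 := List.all_eq_true.1 hc p ha
  rw [Bool.or_eq_true] at h3
  rcases h3 with h3 | h3
  · simpa using h3
  · rw [Nat.mod_eq_zero_of_dvd hd] at h3
    simp at h3

/-- **The numerical criterion**: no element of order `p` commutes with an element of order `l`. -/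
theorem exists_noNorm_of_elt [Finite K] {N : ℕ} (hN : Nat.card K = N) [hp : Fact p.Prime] (l m : ℕ) (hl : l.Prime)
    (hd : l ∣ N) (hm : ¬ p ^ (m + 1) ∣ N) (hord : ∀ k ∈ List.range m, ¬ l ∣ p ^ (k + 1) - 1)
    (hcen : ∀ x y : K, orderOf x = l → orderOf y = p → x * y ≠ y * x) : ∃ x : K, NoNorm p x := by
  have : Fact l.Prime := ⟨hl⟩
  obtain ⟨x, hx⟩ := exists_prime_orderOf_dvd_card' (G := K) l (hN ▸ hd)
  refine ⟨x, noNorm_of_order hl hx (fun y hy => hcen x y hx hy) fun k hk0 hk => ?_⟩
  rw [hN] at hk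
  have h1 : k ≤ m := by
    by_contra hcon
    exact hm ((pow_dvd_pow p (by omega)).trans hk)
  obtain ⟨j, rfl⟩ := Nat.exists_eq_succ_of_ne_zero hk0
  exact hord j (List.mem_range.2 (by omega))

end Cfsg.Agent.H798.RowSp
end

-- part: H568/RowLy
section
set_option linter.all false
open scoped Cfsg.Agent.FastGrp

/-!
# The row of the Lyons group in S4329 (helper568)

`no_order` : no element of `Ly` has order `37 * 67` (Sylow arithmetic in the odd order normalisers); `row_ly`.
-/

set_option autoImplicit false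
set_option maxRecDepth 100000

namespace Cfsg.Agent.H568.RowLy

open Subgroup Cfsg Cfsg.Agent.H393.Iso

universe u

/-- the factorization of the order -/
def fac : List (ℕ × ℕ) := [(2, 8), (3, 7), (5, 6), (7, 1), (11, 1), (31, 1), (37, 1), (67, 1)]

theorem valid : OrdDiv.valid fac 51765179004000000 = true := by decide +kernel

/-- `l` divides no `r ^ k - 1` with `r ^ k` dividing the order -/
theorem ndvd {N l : ℕ} {L : List (ℕ × ℕ)} (hv : OrdDiv.valid L N = true)
    (h : (L.all fun x => x.1 == l || (List.range x.2).all fun k => (x.1 ^ (k + 1) - 1) % l != 0) = true)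
    (r k : ℕ) (hr : r.Prime) (hrl : r ≠ l) (hk : k ≠ 0) (hd : r ^ k ∣ N) : ¬ l ∣ r ^ k - 1 := by
  obtain ⟨e, he, hke⟩ := OrdDiv.exists_pair hv hr (Nat.pos_of_ne_zero hk) hd
  have h1 := List.all_eq_true.1 h _ he
  rw [Bool.or_eq_true, beq_iff_eq] at h1
  have h2 := List.all_eq_true.1 (h1.resolve_left hrl) (k - 1) (List.mem_range.2 (by show k - 1 < e; omega))
  rw [Nat.sub_add_cancel (Nat.pos_of_ne_zero hk), bne_iff_ne] at h2
  exact fun h3 => h2 (Nat.mod_eq_zero_of_dvd h3)

/-- **No element of order `37 * 67`.** -/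
theorem no_order {K : Type u} [Group K] (h : Spor.IsoLy K) (g : K) : orderOf g ≠ 37 * 67 := by
  intro hg
  have hc := NotCT.Orders.ly h
  have hfin : Finite K := Nat.finite_of_card_ne_zero (by rw [hc]; norm_num)
  obtain ⟨-, -, -, ⟨L⟩⟩ := Cfsg.Agent.TypeM.FactsLy.facts h
  have na1 : NA 37 K := na_of_mt (by norm_num) (by norm_num) (by norm_num) L
  have na2 : NA 67 K := na_of_mt (by norm_num) (by norm_num) (by norm_num) L
  have hx : orderOf (g ^ 37) = 67 := by
    rw [orderOf_pow_of_dvd (by norm_num) (by rw [hg]; norm_num), hg]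
  have hw : orderOf (g ^ 67) = 37 := by
    rw [orderOf_pow_of_dvd (by norm_num) (by rw [hg]; norm_num), hg]
  have hodd : ∀ {l : ℕ}, NA l K → ∀ x : K, orderOf x = l → Odd (Nat.card ↥(centralizer ({x} : Set K))) := by
    intro l na x hx
    rw [← Nat.not_even_iff_odd, even_iff_two_dvd]
    intro h2
    have : Fact (Nat.Prime 2) := ⟨Nat.prime_two⟩
    obtain ⟨t, ht⟩ := exists_prime_orderOf_dvd_card' (G := ↥(centralizer ({x} : Set K))) 2 h2
    exact na x t hx (by rw [Subgroup.orderOf_coe, ht]) (mem_centralizer_singleton_iff.1 t.2).symm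
  have ho1 := hodd na2 _ hx
  have ho2 := hodd na1 _ hw
  obtain ⟨m, hm, h1, h2, h3⟩ := OddPair.exists_card (G := K) (l₁ := 67) (l₂ := 37) (by norm_num) (by norm_num)
    (by rw [hc]; norm_num) (by rw [hc]; norm_num) (by norm_num)
    (fun r k hr hrl hk hd => ndvd valid (by decide +kernel) r k hr hrl hk (by rwa [hc] at hd))
    (fun r k hr hrl hk hd => ndvd valid (by decide +kernel) r k hr hrl hk (by rwa [hc] at hd)) hx hw
    ((Commute.refl g).pow_pow 37 67).eq ho1 (S0205.result ho1) (S0205.result ho2) (by norm_num)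
  rw [hc] at hm h3
  have h4 : m ∈ H417.Divs.divs fac := H417.Divs.mem_divs fac (by unfold fac; intro x hx; fin_cases hx <;> norm_num)
    (by rw [show H417.Divs.val fac = 51765179004000000 by decide +kernel]; exact hm)
  have h5 : (H417.Divs.divs fac).all fun m => m % (67 * 37) != 0 || m % 4 == 0 ||
      51765179004000000 / m % (67 * 37) != 1 :=
    H417.Divs.LowDv.all_of [(2, 1)] (fun d h => by
      have h : (Nat.beq (d % 4) 0 || false) = true := h
      simp only [Bool.or_eq_true, Nat.beq_eq] at h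
      rcases h with h | ⟨⟨⟩⟩ <;> simp only [h, beq_self_eq_true, Bool.or_true, Bool.true_or])
    (by decide +kernel)
  have h6 := List.all_eq_true.1 h5 m h4
  simp only [Bool.or_eq_true, bne_iff_ne, beq_iff_eq] at h6
  rcases h6 with (h6 | h6) | h6
  · exact h6 (Nat.mod_eq_zero_of_dvd h1)
  · exact h2 (Nat.dvd_of_mod_eq_zero h6)
  · exact h6 h3

theorem pair : H966.PairNum.pairAll fac 51765179004000000 37 67 = true := by decide +kernel

/-- **The row of the Lyons group.** -/
theorem row_ly (hK : ∀ (T : Type u) [Group T] [Finite T] [IsSimpleGroup T], IsKnownSimple' T) (K : Type u) [Group K]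
    [Finite K] [IsSimpleGroup K] (h : Spor.IsoLy K) (p : ℕ) [hp : Fact p.Prime] (hp2 : p ≠ 2) : Row p K := by
  have hc := NotCT.Orders.ly h
  have hna := H798.RowSp.na_of_card hc (by norm_num)
  refine H966.PairNum.row_of_pairAll hK OrdDiv.table hp2 (center_eq_bot hna) (fun a _ => ?_) valid hc
    (a := 37) (b := 67) (by norm_num) (by norm_num) (by norm_num) (by norm_num) (by norm_num) (by simp [fac])
    (by simp [fac]) (no_order h) pair
  obtain ⟨e⟩ := h
  obtain ⟨s, hs⟩ := TypeM.OutLyFin.inner_ly ((e.symm.trans a).trans e)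
  refine ⟨e.symm s, ?_⟩
  ext y
  have h1 := congrArg (fun f : MulAut Spor.Ly => f (e y)) hs
  simp only [MulAut.conj_apply, MulEquiv.trans_apply, MulEquiv.symm_apply_apply] at h1
  rw [MulAut.conj_apply]
  apply e.injective
  rw [← h1, map_mul, map_mul, map_inv, MulEquiv.apply_symm_apply]

end Cfsg.Agent.H568.RowLy

private theorem dce_4bb745134024 : _root_.True := by
  try have : _root_.True := by simp only [_root_.Cfsg.Agent.H568.RowLy.fac.eq_1]
  exact _root_.True.intro
end
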