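import Mathlib
import Cfsg.Agent.Prune
set_option linter.all false
prune_inst 0x7f00000000000000000000000000000000000000000000000000000000000000000000000000000000000000000000000000000000000000000000000000000000000000000000000000000000000000003fffffffffffffffffffffffffffbeffbdffffffff
open scoped Cfsg.Agent.FastGrp

-- part: H568/ModOrd
section
/-!
# Linear maps of prime order over a finite field (helper568)

`X ^ l = 1`, `l` prime not dividing `q = |F|`, `e` the order of `q` modulo `l` (`he : ∀ m, l ∣ q ^ m - 1 ↔ e ∣ m`):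
* `dvd_finrank_sub` : `e` divides `dim V - dim ker (X - 1)` (orbit counting);
* `irred_of_finrank_eq` : `X ≠ 1`, `dim V = e`: no proper invariant subspaces;
* `finrank_ker_add` : `X ≠ 1`, `dim V < 2 e`: `dim ker (X - 1) + e = dim V`;
* `exists_eigen` : a map commuting with `X` has an eigenvector in `ker (X - 1)` if this is a line;
* `scalar_of_irred` : a map with an eigenvector commuting with an irreducible `X` is a scalar;
* `not_dvd_of_lt` : elements of order `l` need dimension at least `e`.
-/

set_option autoImplicit false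
set_option linter.unusedSectionVars false

namespace Cfsg.Agent.H568

open Module

section

variable {F V : Type*} [Field F] [Finite F] [AddCommGroup V] [Module F V] [FiniteDimensional F V]

theorem card_modEq_ker {l : ℕ} (hl : l.Prime) (X : End F V) (hX : X ^ l = 1) :
    Nat.card V ≡ Nat.card ↥(LinearMap.ker (X - 1)) [MOD l] := by
  classical
  have : Fact l.Prime := ⟨hl⟩
  have hV : Finite V := Module.finite_of_finite F
  have : Fintype V := Fintype.ofFinite V
  let f : Function.End V := fun v => X v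
  have hf : ∀ k : ℕ, (f ^ k : Function.End V) = fun v => (X ^ k) v := by
    intro k
    induction k with
    | zero => rfl
    | succ k ih =>
      rw [pow_succ, ih, pow_succ]
      rfl
  have hf1 : f ^ l ^ 1 = 1 := by
    rw [pow_one, hf, hX]
    rfl
  have h1 := Equiv.Perm.card_fixedPoints_modEq (f := f) (p := l) (n := 1) hf1
  rw [← Nat.card_eq_fintype_card, ← Nat.card_eq_fintype_card] at h1
  have h2 : Nat.card ↥(Function.fixedPoints f) = Nat.card ↥(LinearMap.ker (X - 1)) := by
    apply Nat.card_congr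
    refine Equiv.subtypeEquivRight fun v => ?_
    rw [LinearMap.mem_ker, LinearMap.sub_apply, Module.End.one_apply, sub_eq_zero]
    rfl
  rw [← h2]
  exact h1

theorem dvd_pow_sub_one_of {l : ℕ} (hl : l.Prime) (hlq : ¬ l ∣ Nat.card F) (X : End F V) (hX : X ^ l = 1) :
    l ∣ Nat.card F ^ (finrank F V - finrank F ↥(LinearMap.ker (X - 1))) - 1 := by
  have h1 := card_modEq_ker hl X hX
  rw [Module.natCard_eq_pow_finrank (K := F), Module.natCard_eq_pow_finrank (K := F) (V := ↥(LinearMap.ker (X - 1)))] at h1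
  set c := finrank F ↥(LinearMap.ker (X - 1)) with hc
  have hle : c ≤ finrank F V := Submodule.finrank_le _
  have h2 : Nat.card F ^ finrank F V = Nat.card F ^ c * Nat.card F ^ (finrank F V - c) := by
    rw [← pow_add, Nat.add_sub_cancel' hle]
  rw [h2] at h1
  have hco : Nat.Coprime l (Nat.card F ^ c) := ((Nat.Prime.coprime_iff_not_dvd hl).2 hlq).pow_right c
  have h3 : Nat.card F ^ c * Nat.card F ^ (finrank F V - c) ≡ Nat.card F ^ c * 1 [MOD l] := by
    rwa [mul_one]
  have h4 := Nat.ModEq.cancel_left_of_coprime hco h3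
  have h5 : 1 ≤ Nat.card F ^ (finrank F V - c) := Nat.one_le_pow _ _ Nat.card_pos
  exact (Nat.modEq_iff_dvd' h5).1 h4.symm

theorem finrank_ker_lt {X : End F V} (hX1 : X ≠ 1) : finrank F ↥(LinearMap.ker (X - 1)) < finrank F V := by
  apply Submodule.finrank_lt
  intro h
  apply hX1
  rw [LinearMap.ker_eq_top] at h
  exact sub_eq_zero.1 h

end

end Cfsg.Agent.H568
end

-- part: H568/FieldFix
section
/-!
# Matrices fixed by a semilinear map (helper568)

* `le_of_semi` : `A * σ(X) * A⁻¹ = X`, `X ^ l = 1`, `X ≠ 1`, `l` prime not the characteristic, `r ^ f0` the order of the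
  fixed field of `σ`, `E` at most the order of `r` modulo `l`: `E ≤ f0 * |ι|`;
* `sigma_eq_one` : `σ ^ p = 1`, `|F| = r ^ f`, `f * |ι| < p * E`: then `σ = 1`.
-/

set_option autoImplicit false
set_option linter.unusedSectionVars false

namespace Cfsg.Agent.H568.FieldFix

open Module Matrix Polynomial

/-- the fixed field -/
def fx {K : Type*} [Field K] (τ : K ≃+* K) : Subfield K := RingHom.eqLocusField (τ : K →+* K) (RingHom.id K)

theorem mem_fx {K : Type*} [Field K] {τ : K ≃+* K} {a : K} : a ∈ fx τ ↔ τ a = a := Iff.rfl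

/-- the degree of the fixed field of an automorphism of order `p` -/
theorem card_fx {K : Type*} [Field K] [Finite K] {p : ℕ} (hp : p.Prime) {τ : K ≃+* K} (hτ : τ ^ p = 1) (hτ1 : τ ≠ 1) :
    Nat.card K = Nat.card ↥(fx τ) ^ p := by
  classical
  have : Fact p.Prime := ⟨hp⟩
  have ho : orderOf τ = p := orderOf_eq_prime hτ hτ1
  let G : Subgroup (K ≃+* K) := Subgroup.zpowers τ
  have hGc : Nat.card ↥G = p := by rw [Nat.card_zpowers, ho]
  have hfin : Finite ↥G := Nat.finite_of_card_ne_zero (by rw [hGc]; exact hp.ne_zero)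
  have : Fintype ↥G := Fintype.ofFinite _
  have hff : FaithfulSMul ↥G K := ⟨fun {a b} h => by
    apply Subtype.ext
    ext x
    exact h x⟩
  have h1 := FixedPoints.finrank_eq_card ↥G K
  rw [← Nat.card_eq_fintype_card, hGc] at h1
  have h2 : FixedPoints.subfield ↥G K = fx τ := by
    ext a
    rw [mem_fx]
    constructor
    · intro ha
      exact ha ⟨τ, Subgroup.mem_zpowers τ⟩
    · rintro ha ⟨g, n, rfl⟩
      have h3 : ∀ n : ℕ, (τ ^ n) a = a := by
        intro n
        induction n with
        | zero => rfl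
        | succ n ih => rw [pow_succ, RingAut.mul_apply, ha, ih]
      have h4 : ∀ n : ℤ, (τ ^ n) a = a := by
        intro n
        rcases Int.eq_nat_or_neg n with ⟨m, rfl | rfl⟩
        · rw [zpow_natCast]; exact h3 m
        · rw [_root_.zpow_neg, zpow_natCast]
          show (τ ^ m).symm a = a
          rw [RingEquiv.symm_apply_eq]
          exact (h3 m).symm
      exact h4 n
  rw [h2] at h1
  have h3 := Module.natCard_eq_pow_finrank (K := ↥(fx τ)) (V := K)
  rw [h1] at h3
  exact h3

variable {F : Type*} [Field F] [Finite F] {ι : Type*} [Fintype ι] [DecidableEq ι]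

/-- The characteristic polynomial of `X` comes from the fixed field. -/
theorem exists_poly {σ : F ≃+* F} {A : GL ι F} {X : Matrix ι ι F} (hAX : (A : Matrix ι ι F) * X.map σ = X * A) :
    ∃ g : Polynomial ↥(fx σ), g.Monic ∧ g.natDegree = Fintype.card ι ∧ aeval X g = 0 := by
  have h2 : X.map (σ : F →+* F) = (A⁻¹).val * X * A.val := by
    have h3 : X.map (σ : F →+* F) = X.map σ := rfl
    rw [h3, mul_assoc, ← hAX, ← mul_assoc, ← Units.val_mul, inv_mul_cancel, Units.val_one, one_mul]
  have h3 : X.charpoly.map (σ : F →+* F) = X.charpoly := by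
    rw [← Matrix.charpoly_map, h2, Matrix.coe_units_inv]
    exact Matrix.charpoly_units_conj' A X
  have h4 : X.charpoly ∈ Polynomial.lifts (fx σ).subtype := by
    rw [Polynomial.lifts_iff_coeff_lifts]
    intro n
    have h5 : σ (X.charpoly.coeff n) = X.charpoly.coeff n := by
      conv_rhs => rw [← h3, Polynomial.coeff_map]
      rfl
    exact ⟨⟨_, mem_fx.2 h5⟩, rfl⟩
  obtain ⟨g, hg1, hg2, hg3⟩ := Polynomial.lifts_and_natDegree_eq_and_monic h4 X.charpoly_monic
  refine ⟨g, hg3, by rw [hg2, Matrix.charpoly_natDegree_eq_dim], ?_⟩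
  have h6 : aeval X (g.map (algebraMap ↥(fx σ) F)) = aeval X g := Polynomial.aeval_map_algebraMap F X g
  rw [← h6]
  have h7 : g.map (algebraMap ↥(fx σ) F) = X.charpoly := hg1
  rw [h7, Matrix.aeval_self_charpoly]

theorem le_of_semi {σ : F ≃+* F} {l r f0 E : ℕ} (hl : l.Prime) (hlF : ¬ l ∣ Nat.card F)
    (h0 : Nat.card ↥(fx σ) = r ^ f0) (hE : ∀ m, m ≠ 0 → l ∣ r ^ m - 1 → E ≤ m) {A : GL ι F} {X : Matrix ι ι F}
    (hAX : (A : Matrix ι ι F) * X.map σ = X * A) (hX : X ^ l = 1) (hX1 : X ≠ 1) : E ≤ f0 * Fintype.card ι := by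
  obtain ⟨g, hg, hgn, hg0⟩ := exists_poly hAX
  obtain ⟨n, hn⟩ : ∃ n, n = Fintype.card ι := ⟨_, rfl⟩
  rw [← hn] at hgn ⊢
  let F0 := fx σ
  have hn0 : 0 < n := by
    rw [hn, Fintype.card_pos_iff]
    by_contra hcon
    rw [not_nonempty_iff] at hcon
    exact hX1 (Subsingleton.elim _ _)
  -- the span of the powers of `X`
  obtain ⟨U, hU⟩ : ∃ U : Submodule ↥F0 (Matrix ι ι F), U = Submodule.span ↥F0 (Set.range fun i : Fin n => X ^ (i : ℕ)) :=
    ⟨_, rfl⟩
  have hpow : ∀ i : ℕ, i < n → X ^ i ∈ U := fun i hi => by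
    rw [hU]
    exact Submodule.subset_span ⟨⟨i, hi⟩, rfl⟩
  have hXn : X ^ n ∈ U := by
    have h1 : X ^ n = - ∑ i ∈ Finset.range n, g.coeff i • X ^ i := by
      have h2 := hg0
      rw [Polynomial.aeval_eq_sum_range, hgn, Finset.sum_range_succ] at h2
      have h3 : g.coeff n = 1 := by
        have := hg.coeff_natDegree
        rwa [hgn] at this
      rw [h3, one_smul] at h2
      rw [eq_neg_iff_add_eq_zero, add_comm]
      exact h2
    rw [h1]
    refine U.neg_mem (U.sum_mem fun i hi => U.smul_mem _ (hpow i (Finset.mem_range.1 hi)))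
  have hmul : ∀ Y ∈ U, X * Y ∈ U := by
    intro Y hY
    rw [hU] at hY
    refine Submodule.span_induction (p := fun Y _ => X * Y ∈ U) ?_ ?_ ?_ ?_ hY
    · rintro _ ⟨i, rfl⟩
      show X * X ^ (i : ℕ) ∈ U
      rw [← pow_succ']
      rcases Nat.lt_or_ge ((i : ℕ) + 1) n with h | h
      · exact hpow _ h
      · have : (i : ℕ) + 1 = n := by have := i.2; omega
        rw [this]
        exact hXn
    · rw [mul_zero]; exact U.zero_mem
    · intro a b _ _ ha hb
      rw [mul_add]
      exact U.add_mem ha hb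
    · intro c a _ ha
      rw [mul_smul_comm]
      exact U.smul_mem _ ha
  have hfr : finrank ↥F0 ↥U ≤ n := by
    rw [hU]
    refine (finrank_range_le_card _).trans ?_
    rw [Fintype.card_fin]
  -- left multiplication by `X` on `U`
  let T : End ↥F0 ↥U :=
    { toFun := fun Y => ⟨X * Y, hmul Y Y.2⟩
      map_add' := fun a b => Subtype.ext (mul_add _ _ _)
      map_smul' := fun c a => Subtype.ext (mul_smul_comm _ _ _) }
  have hTk : ∀ (k : ℕ) (Y : ↥U), (((T ^ k) Y : ↥U) : Matrix ι ι F) = X ^ k * Y := by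
    intro k Y
    induction k with
    | zero => rw [pow_zero, pow_zero, one_mul]; rfl
    | succ k ih =>
      rw [pow_succ', Module.End.mul_apply]
      show X * (((T ^ k) Y : ↥U) : Matrix ι ι F) = _
      rw [ih, ← mul_assoc, ← pow_succ']
  have hTl : T ^ l = 1 := by
    apply LinearMap.ext
    intro Y
    apply Subtype.ext
    rw [hTk, hX, one_mul]
    rfl
  have hT1 : T ≠ 1 := by
    intro h
    apply hX1
    have h1 := congrArg (fun T : End ↥F0 ↥U => ((T ⟨1, by simpa using hpow 0 hn0⟩ : ↥U) : Matrix ι ι F)) h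
    simpa only [T, _root_.LinearMap.coe_mk, _root_.AddHom.coe_mk, _root_.mul_one, _root_.Module.End.one_apply] using h1
  have hfin : Finite (Matrix ι ι F) := inferInstance
  have : FiniteDimensional ↥F0 ↥U := by
    have : Finite ↥U := inferInstance
    exact Module.Finite.of_finite
  have hcard : ¬ l ∣ Nat.card ↥F0 := by
    intro h
    apply hlF
    have h1 := Module.natCard_eq_pow_finrank (K := ↥F0) (V := F)
    rw [h1]
    exact h.trans (dvd_pow_self _ (Module.finrank_pos (R := ↥F0) (M := F)).ne')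
  have h1 := dvd_pow_sub_one_of (F := ↥F0) (V := ↥U) hl hcard T hTl
  have h2 := finrank_ker_lt hT1
  rw [h0, ← pow_mul] at h1
  have hf0 : f0 ≠ 0 := by
    rintro rfl
    have h9 : Nat.card ↥(fx σ) = 1 := by simpa only [_root_.pow_zero] using h0
    have := Finite.one_lt_card (α := ↥(fx σ))
    omega
  have h3 := hE _ (Nat.mul_ne_zero hf0 (by (clear * - hmul h2; omega))) h1
  exact h3.trans (Nat.mul_le_mul_left _ ((Nat.sub_le _ _).trans hfr))

/-- **Field automorphisms fix no elements of large prime order.** -/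
theorem sigma_eq_one {σ : F ≃+* F} {l r f E p : ℕ} (hl : l.Prime) (hlF : ¬ l ∣ Nat.card F) (hp : p.Prime)
    (hσ : σ ^ p = 1) (hr : r.Prime) (hF : Nat.card F = r ^ f) (hE : ∀ m, m ≠ 0 → l ∣ r ^ m - 1 → E ≤ m)
    (hEn : f * Fintype.card ι < p * E) {A : GL ι F} {X : Matrix ι ι F}
    (hAX : (A : Matrix ι ι F) * X.map σ = X * A) (hX : X ^ l = 1) (hX1 : X ≠ 1) : σ = 1 := by
  by_contra hσ1
  have h1 := card_fx hp hσ hσ1
  rw [hF] at h1
  have h2 : Nat.card ↥(fx σ) ∣ r ^ f := by
    rw [h1]
    exact dvd_pow_self _ hp.ne_zero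
  obtain ⟨f0, -, h3⟩ := (Nat.dvd_prime_pow hr).1 h2
  rw [h3, ← pow_mul] at h1
  have h4 : f = f0 * p := Nat.pow_right_injective hr.two_le h1
  have h5 := le_of_semi hl hlF h3 hE hAX hX hX1
  have h6 : p * E ≤ p * (f0 * Fintype.card ι) := Nat.mul_le_mul_left _ h5
  rw [h4] at hEn
  have h7 : p * (f0 * Fintype.card ι) = f0 * p * Fintype.card ι := by ring
  omega

end Cfsg.Agent.H568.FieldFix
end
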