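import Cfsg.Agent.H568.OwnChar
import Cfsg.Agent.H568.FieldFix
import Cfsg.Agent.KFacts.TwESix.Tor
import Cfsg.Agent.KFacts.RgdFiltTwAll
import Cfsg.Agent.Prune
set_option linter.all false
prune_inst 0x7f00000000000000000000000000000000000000000000000000000000000000000000000000000000000000000000000000000000000000000000000000000000000000000000000000000000000000003fffffffffffffffffffffffffffbeffbdffffffff
open scoped Cfsg.Agent.FastGrp

/-!
# Elements of `²E₆(q)` normalising no `r`-subgroup (helper568)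

`noNorm_twE6` : `x ∈ ²E₆(q)` of prime order `l`, commuting with no element of order `r`, the order of `q` modulo `l`
divisible by `18` (or by some `h` not dividing `21, 29, 31, 24`): `x` normalises no nontrivial `r`-subgroup.
-/

set_option autoImplicit false
set_option linter.unusedSectionVars false

namespace Cfsg.Agent.H568.OwnCharTw

open CoxeterSystem Cfsg.Agent.ChevalleyStructure.CoxeterGeom Cfsg.Agent.Tits.Roots Cfsg.Agent.Tits.Core
  Cfsg.Agent.Tits.RootComb Cfsg.Agent.Tits.Exchange Cfsg.Agent.Nodes.Reps Cfsg.Agent.Nodes.BNOf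
  Cfsg.Agent.Nodes.Coroot Cfsg.Agent.KFacts.RgdSL Cfsg.Agent.KFacts.RgdTI
  Cfsg.Agent.Nodes.RGDTwE6 Cfsg.Agent.KFacts.TwESix.Comb Cfsg.Agent.KFacts.TwESix.CombRho
  Cfsg.Agent.KFacts.TwESix.Facts Cfsg.Agent.KFacts.RgdField
  Cfsg.Agent.Nodes.RGDTwGen Cfsg.Agent.Nodes.RGDFold Cfsg.Agent.Nodes.RGDFoldSL
open Cfsg.Agent.Nodes.RGDTwNode.E6 Cfsg.Agent.KFacts.TwESix
open Cfsg.Lie Cfsg.Agent.KFacts.RgdFilt Cfsg.Agent.Nodes.Slope

universe u

variable {K : Type u} [Field K] [Fintype K] {q : ℕ} {φ : K →+* K}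
variable {W : Type*} [Group W] (cs : CoxeterSystem CoxeterMatrix.F₄ W)

theorem card_rep' [Finite W] {Y : Type*} [Group Y] {T : Subgroup Y} {n : Fin 4 → Y} {X : (Fin 4 → ℤ) → Subgroup Y}
    {p : ℕ} (R : RGD cs isCartan p T n X) (w : W) {x : Fin 4 → ℤ} (hx : IsRoot cs isCartan x) :
    Nat.card (X (rep cs isCartan w x)) = Nat.card (X x) := by
  obtain ⟨k, hk⟩ := exists_rp cs R.nsys w
  rw [← R.conj_rp hk hx]
  exact Nat.card_congr ((X x).equivMapOfInjective (MulAut.conj k).toMonoidHom (MulAut.conj k).injective).symm.toEquiv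

theorem card_F1 (hφ : ∀ x, φ x = x ^ q) (hqq : ∀ t : K, (t ^ q) ^ q = t) (hK : Fintype.card K = q ^ 2)
    (hq1 : 1 < q) : Nat.card ↥(Fx φ 1) = q := by
  have hinv : ∀ x, φ (φ x) = x := fun x => by rw [hφ, hφ, hqq]
  let τ : K ≃+* K := { φ with invFun := φ, left_inv := hinv, right_inv := hinv }
  have h1 : τ ^ 2 = 1 := by
    ext x
    rw [pow_two, RingAut.mul_apply]
    exact hinv x
  have h2 : τ ≠ 1 := by
    intro h
    apply OutTwo.F1_ne_top hφ hK hq1
    rw [eq_top_iff]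
    intro x _
    have h3 : τ x = x := by rw [h]; rfl
    exact h3
  have h3 := FieldFix.card_fx Nat.prime_two h1 h2
  have h4 : FieldFix.fx τ = Fx φ 1 := by
    ext x
    exact Iff.rfl
  rw [h4, Nat.card_eq_fintype_card, hK] at h3
  exact (Nat.pow_left_injective two_ne_zero h3).symm

theorem card_X (hφ : ∀ x, φ x = x ^ q) (hqq : ∀ t : K, (t ^ q) ^ q = t) (hK : Fintype.card K = q ^ 2)
    (hq1 : 1 < q) (r : ℕ) [Fact r.Prime] [CharP K r] {x : Fin 4 → ℤ} (hx : IsRoot cs isCartan x) :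
    Nat.card ↥(X φ q x) = q ^ (if bf x x = 4 then 1 else 2) := by
  have : Finite W := finiteW cs
  have h0 : bf x x = 4 ∨ bf x x = 2 := by
    have h1 := (mem_rts cs).1 hx
    exact (by decide +kernel : ∀ x ∈ rts, bf x x = 4 ∨ bf x x = 2) x h1
  rcases h0 with h0 | h0
  · obtain ⟨w, rfl⟩ := exists_rep_long cs hx h0
    rw [if_pos h0, card_rep' cs (rgd cs hφ hqq r) w (isRoot_sr cs isCartan 0),
      OutTwo.card_of_coord (Out.coordE hφ hqq 0), pow_one]
    exact card_F1 hφ hqq hK hq1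
  · obtain ⟨w, rfl⟩ := exists_rep_short cs hx h0
    rw [if_neg (by rw [h0]; decide), card_rep' cs (rgd cs hφ hqq r) w (isRoot_sr cs isCartan 3),
      OutTwo.card_of_coord (Out.coordE hφ hqq 3)]
    have h1 : (Fx φ 2 : Subfield K) = ⊤ := Out.F2_eq_top hφ hqq
    show Nat.card ↥(Fx φ 2) = _
    rw [h1, ← hK, ← Nat.card_eq_fintype_card]
    exact Nat.card_congr Subfield.topEquiv.toEquiv

end Cfsg.Agent.H568.OwnCharTw

private theorem dce_f5ba69199e3d : _root_.True := by
  try have : _root_.True := by simp only [_root_.Cfsg.Agent.H568.Lev.congr_simp]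
  exact _root_.True.intro
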