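import Cfsg.Agent.H568.RowTools_m3
import Cfsg.Agent.Nodes.CardSup_m3
import Cfsg.Agent.KFacts.RgdCharP
import Cfsg.Agent.KFacts.RgdBorelTits
import Cfsg.Agent.FastGrp
import Cfsg.Agent.Prune
set_option linter.all false
prune_inst 0x7f00000000000000000000000000000000000000000000000000000000000000000000000000000000000000000000000000000000000000000000000000000000000000000000000000000000000000003fffffffffffffffffffffffffffbeffbdffffffff
open scoped Cfsg.Agent.FastGrp

/-!
# Elements normalising no `r`-subgroup in groups with a root group datum of characteristic `r` (helper568)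

`noNorm_rgd`: let `x` be an element of prime order `l ≠ r` of a group with a root group datum for which the
Borel–Tits theorem holds, such that no element of order `r` commutes with `x`, and suppose that for every node `j`
of the diagram there is a level `m > 0` such that `l` does not divide `∏ |X_β| - 1`, the product over the roots
`β` with `β_j ≥ m`. Then `x` normalises no nontrivial `r`-subgroup.
-/

set_option autoImplicit false
set_option linter.unusedSectionVars false

namespace Cfsg.Agent.H568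

open Subgroup

/-- Counting: an element of prime order `l` acting without fixed points on a `p`-group. -/
theorem dvd_card_sub_one {S : Type*} [Group S] [Finite S] {p : ℕ} [hp : Fact p.Prime] {x : S} {l : ℕ} (hl : l.Prime)
    (hx : orderOf x = l) (hcen : ∀ y : S, orderOf y = p → x * y ≠ y * x) {Q : Subgroup S} (hQ : IsPGroup p Q)
    (hn : x ∈ normalizer (Q : Set S)) : l ∣ Nat.card Q - 1 := by
  classical
  have : Fact l.Prime := ⟨hl⟩
  -- the action of `zpowers x` on `Q` by conjugation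
  have hn' : zpowers x ≤ normalizer (Q : Set S) := by rwa [zpowers_le]
  let act : MulAction ↥(zpowers x) ↥Q :=
    { smul := fun z y => ⟨(z : S) * y * (z : S)⁻¹, (mem_normalizer_iff.1 (hn' z.2) y).1 y.2⟩
      one_smul := fun y => Subtype.ext (by show ((1 : ↥(zpowers x)) : S) * y * ((1 : ↥(zpowers x)) : S)⁻¹ = y; simp)
      mul_smul := fun z z' y => Subtype.ext (by
        show ((z * z' : ↥(zpowers x)) : S) * y * ((z * z' : ↥(zpowers x)) : S)⁻¹ =
          (z : S) * ((z' : S) * y * (z' : S)⁻¹) * (z : S)⁻¹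
        simp [mul_assoc]) }
  have hsm : ∀ (z : ↥(zpowers x)) (y : ↥Q), ((z • y : ↥Q) : S) = (z : S) * y * (z : S)⁻¹ := fun _ _ => rfl
  have hlg : IsPGroup l ↥(zpowers x) := IsPGroup.of_card (n := 1) (by rw [Nat.card_zpowers, hx, pow_one])
  have h1 := hlg.card_modEq_card_fixedPoints (↥Q)
  have h2 : Nat.card (MulAction.fixedPoints ↥(zpowers x) ↥Q) = 1 := by
    rw [Nat.card_eq_one_iff_unique]
    refine ⟨⟨?_⟩, ⟨⟨1, ?_⟩⟩⟩
    · have h3 : ∀ y : MulAction.fixedPoints ↥(zpowers x) ↥Q, ((y : ↥Q) : S) = 1 := by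
        rintro ⟨y, hy⟩
        have h4 := congrArg Subtype.val (hy ⟨x, mem_zpowers x⟩)
        rw [hsm] at h4
        have h5 : x * (y : S) = y * x := mul_inv_eq_iff_eq_mul.1 h4
        by_contra hne
        obtain ⟨j, hj⟩ := hQ y
        have hj' : (y : S) ^ p ^ j = 1 := by simpa using congrArg Subtype.val hj
        obtain ⟨i, -, hi⟩ := (Nat.dvd_prime_pow hp.1).1 (orderOf_dvd_of_pow_eq_one hj')
        have hi0 : i ≠ 0 := by
          rintro rfl
          rw [pow_zero, orderOf_eq_one_iff] at hi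
          exact hne hi
        obtain ⟨i', rfl⟩ := Nat.exists_eq_succ_of_ne_zero hi0
        have h6 : orderOf ((y : S) ^ p ^ i') = p := by
          rw [orderOf_pow_of_dvd (pow_ne_zero _ hp.1.ne_zero) (by rw [hi]; exact pow_dvd_pow _ (Nat.le_succ _)), hi,
            Nat.pow_div (Nat.le_succ _) hp.1.pos]
          simp
        exact hcen _ h6 ((show Commute x (y : S) from h5).pow_right _).eq
      intro y y'
      exact Subtype.ext (Subtype.ext ((h3 y).trans (h3 y').symm))
    · intro z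
      exact Subtype.ext (by rw [hsm]; simp)
  rw [h2] at h1
  exact (Nat.modEq_iff_dvd' Nat.card_pos).1 h1.symm

open CoxeterSystem Cfsg.Agent.ChevalleyStructure.CoxeterGeom Cfsg.Agent.Tits.Roots Cfsg.Agent.Tits.Core
  Cfsg.Agent.Tits.RootComb Cfsg.Agent.Tits.Exchange Cfsg.Agent.Nodes.Reps Cfsg.Agent.Nodes.BNOf
  Cfsg.Agent.Nodes.StabComb Cfsg.Agent.Nodes.Bruhat Cfsg.Agent.Nodes.OppDec Cfsg.Agent.Nodes.LeviDec
  Cfsg.Agent.Nodes.NormX Cfsg.Agent.KFacts.RgdPar Cfsg.Agent.KFacts.RgdCent Cfsg.Agent.KFacts.RgdEx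
  Cfsg.Agent.KFacts.RgdVJ Cfsg.Agent.KFacts.RgdCharP Cfsg.Agent.Nodes.Slope
open scoped commutatorElement

variable {I W Y : Type*} [Fintype I] [DecidableEq I] [Group W] [Group Y] {M : CoxeterMatrix I}
  {cs : CoxeterSystem M W} {A : I → I → ℤ} {h : IsCartan M A} {r : ℕ} {T : Subgroup Y} {n : I → Y}
  {X : (I → ℤ) → Subgroup Y}

/-- The roots whose `j`-coordinate is at least `m`. -/
def Lev (cs : CoxeterSystem M W) (h : IsCartan M A) (j : I) (m : ℤ) : Set (I → ℤ) := {x | IsRoot cs h x ∧ m ≤ x j}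

/-- The level `m` at the node `j` is an ideal. -/
def LevOk (cs : CoxeterSystem M W) (h : IsCartan M A) (j : I) (m : ℤ) : Prop :=
  0 < m ∧ ∀ x y z, IsRoot cs h x → IsRoot cs h y → 0 ≤ x j → m ≤ y j → Btwn cs h x y z → m ≤ z j

theorem levOk_one (j : I) : LevOk cs h j 1 := by
  refine ⟨one_pos, fun x y z hx hy hx0 hy1 hz => ?_⟩
  obtain ⟨-, m, a, b, hm, ha, hb, he⟩ := hz
  have h1 := congrFun he j
  simp only [Pi.smul_apply, Pi.add_apply, smul_eq_mul] at h1
  have h2 : 0 < m * z j := by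
    rw [h1]
    have h3 : 0 ≤ a * x j := mul_nonneg ha.le hx0
    have h4 : 0 < b * y j := mul_pos hb (by omega)
    omega
  have h3 : 0 < z j := by
    by_contra h4
    push Not at h4
    have := mul_nonneg_of_nonpos_of_nonpos (neg_nonpos.2 hm.le) h4
    have h5 : 0 ≤ -(m * z j) := by rw [← neg_mul]; exact this
    omega
  omega

theorem Lev_closed {j : I} {m : ℤ} (hm : LevOk cs h j m) : Closed cs h (Lev cs h j m) :=
  ⟨fun _ hx => hx.1, fun x hx y hy z hz => ⟨hz.1, hm.2 x y z hx.1 hy.1 (by have := hm.1; have := hx.2; omega) hy.2 hz⟩⟩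

variable (R : RGD cs h r T n X)

include R

theorem le_norm_Lev {j : I} {m : ℤ} (hm : LevOk cs h j m) {J : Set I} (hj : j ∉ J) :
    PJ cs h T X J ≤ normalizer ((RGD.Sup X (Lev cs h j m) : Subgroup Y) : Set Y) := by
  have hroot : ∀ x, IsRoot cs h x → 0 ≤ x j → X x ≤ normalizer ((RGD.Sup X (Lev cs h j m) : Subgroup Y) : Set Y) := by
    intro x hx hx0
    unfold RGD.Sup
    refine Cfsg.Agent.KFacts.RgdBorelTits.le_normalizer_of_comm _ _ ?_
    rintro a ha ⟨y, hy⟩ b hb
    by_cases hxy : x = y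
    · subst hxy
      rw [commutatorElement_def]
      exact (le_iSup (fun z : ↥(Lev cs h j m) => X z.1) ⟨x, hy⟩) (mul_mem (mul_mem (mul_mem ha hb) (inv_mem ha)) (inv_mem hb))
    · have hne : x ≠ -y := by
        rintro rfl
        have h1 := hy.2
        have h2 := hm.1
        simp only [Pi.neg_apply] at hx0
        omega
      have h1 := R.comm x y hx hy.1 hxy hne a ha b hb
      refine (iSup_le ?_ : btw cs h X x y ≤ _) h1
      rintro ⟨z, hz⟩
      exact le_iSup (fun z : ↥(Lev cs h j m) => X z.1) ⟨z, hz.1, hm.2 x y z hx hy.1 hx0 hy.2 hz⟩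
  unfold PJ LJ VJ
  refine sup_le (sup_le ?_ ?_) ?_
  · intro t ht
    rw [mem_normalizer_iff_cj]
    unfold RGD.Sup
    rw [cj_iSup]
    exact iSup_congr fun z => R.tor z.1 z.2.1 t ht
  · exact RGD.Sup_le fun x hx => hroot x hx.1 (hx.2 j hj).ge
  · exact RGD.Sup_le fun x hx => hroot x hx.1 (hx.2.1 j)

/-- **Elements normalising no `r`-subgroup.** -/
theorem noNorm_rgd [Finite W] [Finite Y] [hr : Fact r.Prime] (hBT : BT cs h r T X) {l : ℕ} (hl : l.Prime) {x : Y}
    (hx : orderOf x = l) (hcen : ∀ y : Y, orderOf y = r → x * y ≠ y * x)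
    (hj : ∀ j : I, ∃ m : ℤ, LevOk cs h j m ∧ ¬ l ∣ Nat.card ↥(RGD.Sup X (Lev cs h j m)) - 1) : NoNorm r x := by
  intro Q hQ hn
  by_contra hb
  obtain ⟨g, J, hJ, -, hP⟩ := hBT Q hQ hb
  obtain ⟨j, hjJ⟩ := (Set.ne_univ_iff_exists_notMem J).1 hJ
  obtain ⟨m, hm, hl'⟩ := hj j
  apply hl'
  have h1 := hP hn
  rw [mem_cj] at h1
  have h2 := le_norm_Lev R hm hjJ h1
  have h3 : x ∈ normalizer ((cj g (RGD.Sup X (Lev cs h j m)) : Subgroup Y) : Set Y) := by
    rw [mem_normalizer_iff] at h2 ⊢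
    intro y
    rw [mem_cj, mem_cj]
    have h4 := h2 (g⁻¹ * y * g)
    have h5 : g⁻¹ * x * g * (g⁻¹ * y * g) * (g⁻¹ * x * g)⁻¹ = g⁻¹ * (x * y * x⁻¹) * g := by group
    rwa [h5] at h4
  have h4 : IsPGroup r ↥(RGD.Sup X (Lev cs h j m)) := by
    refine R.isPGroup_of_pos (S := Lev cs h j m) fun y hy => ⟨hy.1, ?_⟩
    rcases hy.1.pos_or_neg with h5 | h5
    · exact h5
    · exact absurd (h5 j) (by have := hm.1; have := hy.2; simp only [Pi.zero_apply]; omega)
  have h5 : IsPGroup r ↥(cj g (RGD.Sup X (Lev cs h j m))) := by unfold cj; exact h4.map _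
  have h6 := dvd_card_sub_one hl hx hcen h5 h3
  have h7 : Nat.card ↥(cj g (RGD.Sup X (Lev cs h j m))) = Nat.card ↥(RGD.Sup X (Lev cs h j m)) := by
    unfold cj
    exact Nat.card_congr (Subgroup.equivMapOfInjective _ _ (MulAut.conj g).injective).symm.toEquiv
  rwa [h7] at h6

end Cfsg.Agent.H568
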